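import Cfsg.Agent.HST.ModG
import Cfsg.Agent.Spor.PermKitClass
import Cfsg.Agent.KInv.FisB
import Cfsg.Agent.KInv.CoC

/-! No element of order fourteen in the Higman-Sims group; involution centralisers in `Fi₂₂`. -/

set_option autoImplicit false
set_option maxRecDepth 100000

namespace Cfsg.Lib.S52

open Subgroup Cfsg.Lib.Spor Cfsg.Lib.Spor.Bulk Cfsg.Lib.Spor.PK Cfsg.Lib.Spor.WF Cfsg.Lib.HST

/-- an element of order seven with its centraliser -/
def cl7 : Cfsg.Lib.Spor.PK.Cl where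
  wd := [6]
  cert := [⟨0, [3008, 5892, 5637, 4294, 2503, 3592, 2764, 1933, 902, 2631, 4872, 1356, 3405, 4103, 4360, 3469, 839, 1288,
    4429, 3782, 4167, 780, 5261, 2182, 3148, 5709, 4036, 2054, 582, 2375, 524, 5325, 1158, 4940, 3270, 4807,
    651, 3212, 1997, 966, 460, 2253, 3718, 1420, 6157, 76, 2829, 5058, 1859, 5764, 325, 5126, 2567, 4552,
    1545, 1483, 4611, 4741, 390, 6215, 2892, 2445, 3340, 5517, 6092, 1613, 3970, 1091, 4228, 4485, 5446, 5191,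
    1227, 716, 5965, 140, 1677, 3853, 2114, 3651, 196, 1735, 1800, 5385, 5827, 2316, 3085, 2690, 3523, 4677,
    2951, 6022, 6349, 1026, 4998, 264, 6276, 3913, 5581], [[7, 13, 6, 8, 12, 11, 6, 4], [7, 12, 7, 12, 7, 12,
    6]]⟩,
   ⟨39, [384, 1985, 1024, 2113, 4096, 2241, 4864, 833, 4992, 4609, 3008, 257, 1664, 2625, 2944, 2752, 2561, 3328,
    961, 3969, 3648, 6080, 2305, 2432, 4353, 6017, 3776, 1729, 129, 4288, 1409, 5185, 4160, 1089, 1600, 2049,
    448, 897, 192, 3713, 704, 5121, 1280, 2880, 1217, 3264, 1153, 5568, 2816, 1472, 1793, 640, 2369, 3584,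
    1857, 5952, 576, 3201, 65, 1537, 2176, 3136, 513, 4800, 4929, 768, 1345, 3521, 3392, 1921, 320, 4544,
    2688, 4737, 5057, 4481], [[1, 0, 1, 0, 0, 1, 1, 0, 1], [1, 1, 1, 1, 0, 0, 1, 1, 1, 1, 0, 0, 1]]⟩,
   ⟨65, [6016, 769, 3584, 2241, 3264, 1473, 2112, 1089, 2624, 2561, 5568, 257, 1920, 4929, 5121, 3008, 4289,
    1984, 2817, 2944, 3777, 2368, 2304, 641, 961, 3392, 2048, 2177, 4544, 193, 3712, 4481, 1792, 1216, 4353,
    2689, 385, 5185, 64, 4865, 4801, 2880, 1409, 3520, 1537, 3648, 1280, 3201, 1729, 577, 1153, 4992, 448,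
    1601, 2433, 128, 1345, 897, 3968], [[0, 0, 1, 0, 1, 1, 0, 0, 0, 1, 0, 1, 0, 1, 0], [0, 0, 0, 1, 0, 0, 1,
    0, 0]]⟩,
   ⟨34, [960, 1984, 4929, 3648, 2049, 3008, 3713, 4545, 2240, 1089, 5121, 4480, 4864, 3265, 3520, 2944, 1793,
    2369, 1921, 4288, 2881, 3776, 1473, 2560, 5569, 1536, 2688, 1729, 2625, 3393, 768], [[1, 0, 0, 0]]⟩,
   ⟨56, [2112, 6016], []⟩]
  es := [1, 6]
  c := 7
  nc := []


theorem cl7_ok : clOk 12 100 (PM.evs (pmul 12 100) (one 12 100) MG.cs (MG.W 0)) 44352000 cl7 = true := by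
  decide +kernel

theorem gen14 {G : Type*} [Group G] [Finite G] (c0 : Nat.card G = 44352000) {b : G}
    (hb : Nat.card (centralizer ({b} : Set G)) = 7) {x t : G} (hx : orderOf x = 7)
    (ht : orderOf t = 2) : ¬ Commute x t := fun c => by
  have h7 : Nat.Prime 7 := by norm_num
  have := Fact.mk h7
  have b1 : b ≠ 1 := by
    rintro rfl
    rw [show centralizer ({1} : Set G) = ⊤ from eq_top_iff.2 fun g _ =>
      mem_centralizer_singleton_iff.2 (by simp), card_top, c0] at hb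
    omega
  have bo : orderOf b = 7 := ((Nat.dvd_prime h7).1 (by
    rw [← hb]; exact orderOf_dvd_natCard _ (mem_centralizer_singleton_iff.2 rfl))).resolve_left
    (by simpa using b1)
  obtain ⟨k, hk⟩ := KInv.Co.conj_zp h7 (H := ⊤) (by rw [card_top, c0]; norm_num) (mem_top x) (mem_top b)
    (by rw [← hx, pow_orderOf_eq_one]) bo
  have o : orderOf (k * x * k⁻¹) = 7 := ((MulAut.conj k).orderOf_eq x).trans hx
  have e : zpowers (k * x * k⁻¹) = zpowers b := eq_of_le_of_card_ge (zpowers_le.2 hk)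
    (by rw [Nat.card_zpowers, Nat.card_zpowers, o, bo])
  obtain ⟨i, hi⟩ := e.ge (mem_zpowers b)
  have m : k * t * k⁻¹ ∈ centralizer ({b} : Set G) := mem_centralizer_singleton_iff.2 (by
    rw [← hi]; exact ((c.map (MulAut.conj k)).zpow_left i).eq.symm)
  have := orderOf_dvd_natCard _ m
  rw [hb, show orderOf (k * t * k⁻¹) = 2 from ((MulAut.conj k).orderOf_eq t).trans ht] at this
  omega

theorem hs14 {x t : Spor.HS} (hx : orderOf x = 7) (ht : orderOf t = 2) : ¬ Commute x t := fun c => by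
  obtain ⟨q⟩ := equiv_MG
  let e := (q.trans CK.sHSEquiv).symm
  have : Finite (sub MG.m (MG.W 0)) := Nat.finite_of_card_ne_zero (by rw [card_MG]; decide)
  have h := (clOk_sound (PM.ctx MG_ok) (PM.dens_evs MG_ok (MG.W 0)) card_MG cl7_ok).1
  refine gen14 card_MG (b := ⟨_, evalG_mem _ cl7.wd⟩) ?_ ((e.orderOf_eq x).trans hx)
    ((e.orderOf_eq t).trans ht) (c.map e)
  rw [← show _ = 7 from h, ← card_map_of_injective (subtype_injective _)]
  congr 2
  ext y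
  simp only [mem_map, mem_inf, mem_centralizer_singleton_iff, coe_subtype]
  exact ⟨fun ⟨a, h1, h2⟩ => h2 ▸ ⟨a.2, congrArg Subtype.val h1⟩,
    fun ⟨h1, h2⟩ => ⟨⟨y, h1⟩, Subtype.ext h2, rfl⟩⟩

open Cfsg.Lib.KInv Cfsg.Lib.Trans Cfsg.Lib.Known in
theorem cent22 (t : Spor.Fi22) (ht : orderOf t = 2) :
    Ch2 t ∨ IsQuasisimple (Cz t) ∧ Nat.card (center (Cz t)) = 2 := by
  have hD := IsTT.group_of_class f22_tt
  have := Class.Form.isSimpleGroup_PSU (F := Class.GF4) (q := 2) Class.card_GF4 6 (by norm_num) (by norm_num)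
  have : Fact (Nat.Prime 3) := ⟨Nat.prime_three⟩
  obtain ⟨f⟩ := f6_nonsplit.2.1.map (cquot (MulEquiv.subgroupCongr f22_H)).trans
  have h3 := Pat.pCore_le_center u62_cen f.symm 3
  have h2 := Pat.pCore_le_center u62_cen f.symm 2
  have cov := fun e => cover_conj (d := Fi22P.g0 1) (e := e) (X := PSU 6 Class.GF4 2)
    (by rw [Cz, f22_cent]; exact f6_perfect) (by rw [Cz, f22_cent]; exact f6_nonsplit)
  obtain ⟨m, m1, m3, l, hl⟩ := (Agent.S5398.result hD f22_prim _ (IsConj.refl _) h3 h2 f22_type).1 t ht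
  obtain ⟨u2, u3⟩ := Agent.S5463.result hD f22_prim _ (IsConj.refl _) h3 h2 f22_type
  have key : ∀ a ∈ l, ∀ b ∈ l, a ≠ b → ∀ l₁ l₂ : List Spor.Fi22,
      (∀ l, Dec (conjugatesOf (Fi22P.g0 1)) m t l → (∀ x, x ∈ l ↔ x ∈ l₁) ∨ ∀ x, x ∈ l ↔ x ∈ l₂) →
      Ch2 t := fun a ha b hb n l₁ l₂ hu => by
      obtain ⟨k1, k2, ⟨k3⟩⟩ := cov a (hl.2.2.1 a ha)
      refine ch2_of_dec hD hl hu k1 (chev_u6 Class.card_GF4 k3) (IsPGroup.of_card (n := 1) k2)
        (centralizer_le (Set.singleton_subset_iff.2 ha)) (x := ⟨b, mem_Cz.2 (hl.2.2.2.1 a ha b hb)⟩) hb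
        (fun h => ?_) (by rw [← pow_two, ← ht, pow_orderOf_eq_one])
      obtain ⟨y, -, hy⟩ := (Nat.card_eq_two_iff' (1 : center (Cz a))).1 k2
      have o : ∀ x : center (Cz a), (x.1 : Spor.Fi22) ∈ l → x = y := fun x hx => hy x fun e => by
        have := hD.1.1 _ (hl.2.2.1 _ hx)
        simp [e] at this
      exact n (congrArg (fun x : center (Cz a) => (x.1 : Spor.Fi22)) ((o ⟨⟨a, mem_Cz.2 rfl⟩,
        mem_center_iff.2 fun g => Subtype.ext (mem_Cz.1 g.2).symm⟩ ha).trans (o ⟨_, h⟩ hb).symm))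
  have h := hl.2.1
  rcases l with _ | ⟨a, _ | ⟨b, l⟩⟩
  · simp at h; omega
  · obtain rfl : a = t := by simpa using hl.2.2.2.2
    obtain ⟨k1, k2, -⟩ := cov a (hl.2.2.1 a (by simp))
    exact .inr ⟨k1, k2⟩
  have n : a ≠ b := fun e => (List.nodup_cons.1 hl.1).1 (e ▸ List.mem_cons_self)
  obtain rfl | rfl : m = 2 ∨ m = 3 := by simp at h; omega
  · exact .inl (key a List.mem_cons_self b (List.mem_cons_of_mem _ List.mem_cons_self) n _ [] fun p hp => .inl (u2 t p _ hp hl))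
  · obtain ⟨l₁, l₂, -, -, -, hu⟩ := u3 t _ hl
    exact .inl (key a List.mem_cons_self b (List.mem_cons_of_mem _ List.mem_cons_self) n l₁ l₂ hu)

end Cfsg.Lib.S52
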